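import Groth.Agent.W7Rees.FF
import Groth.Agent.W7Exist.System
import Groth.Agent.CohQC.QuasiAffine
import Groth.Agent.QC.Coherent
import Groth.Agent.FormGr.ModPowSES
import Mathlib.RingTheory.Filtration

/-!
Subsheaves `JF`, multiplication maps into them, and the long exact sequence of `HH`,
without properness.
-/

set_option autoImplicit false
set_option backward.isDefEq.respectTransparency false
set_option backward.isDefEq.respectTransparency.types false
set_option linter.style.haveILetI false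
set_option maxHeartbeats 1000000

universe u

open CategoryTheory CategoryTheory.Limits AlgebraicGeometry TopologicalSpace Opposite
open Groth.Agent.W7Rees (hm qπ kι hm_comp)

noncomputable section

namespace Groth.Agent.FFFinite

variable {A : Type u} [CommRing A] {X : Scheme.{u}} [X.Over (Spec (CommRingCat.of A))]
  (F : X.Modules)

/-- The subsheaf `JF`. -/
abbrev jSub (J : Ideal A) : X.Modules := kernel (qπ F J)

lemma smulMod_qπ (J : Ideal A) {a : A} (ha : a ∈ J) : Formal.smulMod A F a ≫ qπ F J = 0 :=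
  (congrArg (· ≫ qπ F J) (Sigma.ι_desc (fun a : J => Formal.smulMod A F (a : A)) ⟨a, ha⟩).symm).trans
    ((Category.assoc _ _ _).trans
      ((congrArg (Sigma.ι (fun _ : J => F) ⟨a, ha⟩ ≫ ·) (cokernel.condition (Formal.smulFamily J F))).trans comp_zero))

lemma kι_comp_eq_zero (J : Ideal A) {P : X.Modules} (h : F ⟶ P)
    (hh : ∀ a ∈ J, Formal.smulMod A F a ≫ h = 0) : kι F J ≫ h = 0 := by
  have h0 : Formal.smulFamily J F ≫ h = 0 := Sigma.hom_ext _ _ fun a => by
    rw [Formal.smulFamily, Sigma.ι_desc_assoc, comp_zero]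
    exact hh a.1 a.2
  rw [← cokernel.π_desc (Formal.smulFamily J F) h h0, ← Category.assoc, kernel.condition, zero_comp]

/-- The inclusion `JF → J'F`. -/
def sTr {J J' : Ideal A} (h : J ≤ J') : jSub F J ⟶ jSub F J' :=
  kernel.lift _ (kι F J) (kι_comp_eq_zero F J _ fun _ ha => smulMod_qπ F J' (h ha))

@[reassoc (attr := simp)]
lemma sTr_ι {J J' : Ideal A} (h : J ≤ J') : sTr F h ≫ kι F J' = kι F J := kernel.lift_ι _ _ _

lemma sTr_comp {J J' J'' : Ideal A} (h : J ≤ J') (h' : J' ≤ J'') :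
    sTr F h ≫ sTr F h' = sTr F (h.trans h') := (cancel_mono (kι F J'')).1 (by simp)

open Classical in
/-- Multiplication by `a`, as a map `F → JF` when `a ∈ J`. -/
def mulTo (J : Ideal A) (a : A) : F ⟶ jSub F J :=
  if h : a ∈ J then kernel.lift _ (Formal.smulMod A F a) (smulMod_qπ F J h) else 0

@[reassoc]
lemma mulTo_ι (J : Ideal A) {a : A} (h : a ∈ J) : mulTo F J a ≫ kι F J = Formal.smulMod A F a := by
  rw [mulTo, dif_pos h]
  exact kernel.lift_ι _ _ _

lemma mulTo_sTr {J J' : Ideal A} (h : J ≤ J') {a : A} (ha : a ∈ J) :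
    mulTo F J a ≫ sTr F h = mulTo F J' a := (cancel_mono (kι F J')).1 (by
  rw [Category.assoc, sTr_ι, mulTo_ι F J ha, mulTo_ι F J' (h ha)])

lemma smulMod_mulTo (J : Ideal A) {a : A} (ha : a ∈ J) (c : A) :
    Formal.smulMod A F c ≫ mulTo F J a = mulTo F J (a * c) := (cancel_mono (kι F J)).1 (by
  rw [Category.assoc, mulTo_ι F J ha, mulTo_ι F J (J.mul_mem_right c ha), W7Exist.smulMod_comp])

lemma mulTo_add (J : Ideal A) {a b : A} (ha : a ∈ J) (hb : b ∈ J) :
    mulTo F J (a + b) = mulTo F J a + mulTo F J b := (cancel_mono (kι F J)).1 (by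
  rw [Preadditive.add_comp, mulTo_ι F J (J.add_mem ha hb), mulTo_ι F J ha, mulTo_ι F J hb, W7Exist.smulMod_add])

lemma mulTo_zero (J : Ideal A) : mulTo F J (0 : A) = 0 := (cancel_mono (kι F J)).1 (by
  rw [mulTo_ι F J J.zero_mem, zero_comp, W7Exist.smulMod_zero])

lemma hm_add {M N : X.Modules} (f g : M ⟶ N) (q : ℕ) (x : Coh.HH X M q) :
    hm (f + g) q x = hm f q x + hm g q x :=
  (congrArg (fun ψ => Sheaf.H.map ψ q x) ((SheafOfModules.toSheaf X.ringCatSheaf).map_add (f := f) (g := g))).trans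
    (Sheaf.H.map_add_apply _ _ _)

lemma hm_zero {M N : X.Modules} (q : ℕ) (x : Coh.HH X M q) : hm (0 : M ⟶ N) q x = 0 := by
  have h := hm_add (0 : M ⟶ N) 0 q x
  rw [add_zero] at h
  exact left_eq_add.mp h

lemma hm_id {M : X.Modules} (q : ℕ) (x : Coh.HH X M q) : hm (𝟙 M) q x = x :=
  (congrArg (fun ψ => Sheaf.H.map ψ q x) ((SheafOfModules.toSheaf X.ringCatSheaf).map_id M)).trans
    (Sheaf.H.map_id_apply _)

lemma hm_smulMod (M : X.Modules) (a : A) (q : ℕ) (x : Coh.HH X M q) :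
    hm (Formal.smulMod A M a) q x = a • x := rfl

lemma hm_smul {M N : X.Modules} (f : M ⟶ N) (a : A) (q : ℕ) (x : Coh.HH X M q) :
    hm f q (a • x) = a • hm f q x := by
  rw [← hm_smulMod, ← hm_smulMod, ← hm_comp, W7Cech.smulMod_natural, hm_comp]

/-- The connecting map. -/
def dlt {S : ShortComplex X.Modules} (hS : S.ShortExact) (q : ℕ) :
    Coh.HH X S.X₃ q →+ Coh.HH X S.X₁ (q + 1) :=
  (CohQC.seq_shortExact hS).extClass.postcomp _ rfl

lemma exists_hm_g {S : ShortComplex X.Modules} (hS : S.ShortExact) (q : ℕ) (x : Coh.HH X S.X₃ q)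
    (h : dlt hS q x = 0) : ∃ y, hm S.g q y = x :=
  Abelian.Ext.covariant_sequence_exact₃.{u} _ (CohQC.seq_shortExact.{u} hS) x rfl h

lemma exists_hm_f {S : ShortComplex X.Modules} (hS : S.ShortExact) (q : ℕ) (x : Coh.HH X S.X₂ q)
    (h : hm S.g q x = 0) : ∃ y, hm S.f q y = x :=
  Abelian.Ext.covariant_sequence_exact₂.{u} _ (CohQC.seq_shortExact.{u} hS) x h

lemma hm_dlt {S : ShortComplex X.Modules} (hS : S.ShortExact) (q : ℕ) (x : Coh.HH X S.X₃ q) :
    hm S.f (q + 1) (dlt hS q x) = 0 := by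
  change (Abelian.Ext.comp x (CohQC.seq_shortExact hS).extClass rfl).comp
    (Abelian.Ext.mk₀ (S.map (CohQC.toAbF X)).f) (add_zero (q + 1)) = 0
  rw [Abelian.Ext.comp_assoc _ _ _ rfl (add_zero 1) (by omega), ShortComplex.ShortExact.extClass_comp,
    Abelian.Ext.comp_zero]

lemma dlt_naturality {S T : ShortComplex X.Modules} (hS : S.ShortExact) (hT : T.ShortExact) (φ : S ⟶ T)
    (q : ℕ) (x : Coh.HH X S.X₃ q) : hm φ.τ₁ (q + 1) (dlt hS q x) = dlt hT q (hm φ.τ₃ q x) := by
  have h := ShortComplex.ShortExact.extClass_naturality.{u} (CohQC.seq_shortExact.{u} hS) (CohQC.seq_shortExact.{u} hT)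
    ((CohQC.toAbF X).mapShortComplex.map φ)
  change (Abelian.Ext.comp x (CohQC.seq_shortExact hS).extClass rfl).comp
      (Abelian.Ext.mk₀ ((CohQC.toAbF X).map φ.τ₁)) (add_zero (q + 1)) =
    Abelian.Ext.comp (Abelian.Ext.comp x (Abelian.Ext.mk₀ ((CohQC.toAbF X).map φ.τ₃)) (add_zero q))
      (CohQC.seq_shortExact hT).extClass rfl
  rw [Abelian.Ext.comp_assoc _ _ _ rfl (add_zero 1) (by omega),
    Abelian.Ext.comp_assoc _ _ _ (add_zero q) (zero_add 1) (by omega)]
  exact congrArg (fun e => Abelian.Ext.comp x e rfl) h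

variable {F}

lemma shortExact_qπ (J : Ideal A) :
    (ShortComplex.mk (kι F J) (qπ F J) (kernel.condition _)).ShortExact where
  exact := ShortComplex.exact_kernel _

/-- A map vanishing on the sections over the members of an affine cover vanishes. -/
lemma eq_zero_of_app_eq_zero {M N : X.Modules} (hM : Coh.IsQCoh M) (hN : Coh.IsQCoh N) (φ : M ⟶ N)
    {ι : Type u} (V : ι → X.Opens) (hV : ∀ i, IsAffineOpen (V i)) (hcov : ∀ x : X, ∃ i, x ∈ V i)
    (h : ∀ i (s : Γ(M, V i)), φ.app (V i) s = 0) : φ = 0 := by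
  haveI : IsIso (kernel.ι φ) := by
    refine QC.isIso_of_restrict_cover (fun i => (hV i).fromSpec) (fun x => ?_) _ fun i => ?_
    · obtain ⟨i, hi⟩ := hcov x
      exact ⟨i, by rwa [(hV i).range_fromSpec]⟩
    · exact QC.isIso_restrict_of_bijective (hV i) (QC.isQCoh_kernel hM hN φ) hM _
        ⟨QC.app_injective_of_mono (kernel.ι φ) (V i), fun s => (QC.mem_range_kernel_app φ (V i) s).2 (h i s)⟩
  rw [← cancel_epi (kernel.ι φ), kernel.condition, comp_zero]

end Groth.Agent.FFFinite
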