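import Groth.Agent.FFFinite.Basic

/-!
Classes divisible by an ideal, and: divisibility of deep classes implies that deep classes dying
in `F` die a bounded number of steps down.
-/

set_option autoImplicit false
set_option backward.isDefEq.respectTransparency false
set_option backward.isDefEq.respectTransparency.types false
set_option linter.style.haveILetI false
set_option maxHeartbeats 1000000

universe u

open CategoryTheory CategoryTheory.Limits AlgebraicGeometry TopologicalSpace Opposite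
open Groth.Agent.W7Rees (hm qπ kι hm_comp)

noncomputable section

namespace Groth.Agent.FFFinite

variable {A : Type u} [CommRing A] {X : Scheme.{u}} [X.Over (Spec (CommRingCat.of A))]
  (F : X.Modules)

/-- The classes in `H^q(JF)` spanned by the products `a · z` with `a ∈ J` and `z` in `H^q(F)`. -/
def divClasses (J : Ideal A) (q : ℕ) : AddSubgroup (Coh.HH X (jSub F J) q) :=
  AddSubgroup.closure {y | ∃ a ∈ J, ∃ z : Coh.HH X F q, y = hm (mulTo F J a) q z}

lemma divClasses_map {J J' : Ideal A} (h : J ≤ J') (q : ℕ) {x : Coh.HH X (jSub F J) q}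
    (hx : x ∈ divClasses F J q) : hm (sTr F h) q x ∈ divClasses F J' q := by
  induction hx using AddSubgroup.closure_induction with
  | mem y hy =>
    obtain ⟨a, ha, z, rfl⟩ := hy
    exact AddSubgroup.subset_closure ⟨a, h ha, z, by rw [← hm_comp, mulTo_sTr F h ha]⟩
  | zero => simp
  | add a b _ _ ha hb => rw [map_add]; exact add_mem ha hb
  | neg a _ ha => rw [map_neg]; exact neg_mem ha

lemma hm_kι_mem {J : Ideal A} (q : ℕ) {x : Coh.HH X (jSub F J) q} (hx : x ∈ divClasses F J q) :
    hm (kι F J) q x ∈ (J • ⊤ : Submodule A (Coh.HH X F q)) := by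
  induction hx using AddSubgroup.closure_induction with
  | mem y hy =>
    obtain ⟨a, ha, z, rfl⟩ := hy
    rw [← hm_comp, mulTo_ι F J ha, hm_smulMod]
    exact Submodule.smul_mem_smul ha trivial
  | zero => simp
  | add a b _ _ ha hb => rw [map_add]; exact add_mem ha hb
  | neg a _ ha => rw [map_neg]; exact neg_mem ha

/-- Deep classes are divisible. -/
def Deep (J : Ideal A) : Prop :=
  ∀ q m : ℕ, ∃ n, ∃ h : m ≤ n, ∀ x : Coh.HH X (jSub F (J ^ n)) q,
    hm (sTr F (Ideal.pow_le_pow_right h)) q x ∈ divClasses F (J ^ m) q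

variable {F}

theorem exists_range_le_smul {J : Ideal A} (hJ : Deep F J) (q m : ℕ) :
    ∃ n, ∀ k, n ≤ k → ∀ x : Coh.HH X (jSub F (J ^ k)) q,
      hm (kι F (J ^ k)) q x ∈ (J ^ m • ⊤ : Submodule A (Coh.HH X F q)) := by
  obtain ⟨n, h, hn⟩ := hJ q m
  refine ⟨n, fun k hk x => ?_⟩
  have h1 := hm_kι_mem F q (hn (hm (sTr F (Ideal.pow_le_pow_right hk)) q x))
  rwa [← hm_comp, ← hm_comp, sTr_ι, sTr_ι] at h1

theorem exists_dies [IsNoetherianRing A] {J : Ideal A} (hJ : Deep F J) (q : ℕ)
    [Module.Finite A (Coh.HH X F q)] (m : ℕ) :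
    ∃ n, ∃ h : m ≤ n, ∀ x : Coh.HH X (jSub F (J ^ n)) q, hm (kι F (J ^ n)) q x = 0 →
      hm (sTr F (Ideal.pow_le_pow_right h)) q x = 0 := by
  classical
  obtain ⟨k, π, hπ⟩ := Module.Finite.exists_fin' A (Coh.HH X F q)
  let e : Fin k → Coh.HH X F q := fun s => π (Pi.single s 1)
  have he : ∀ v : Fin k → A, ∑ s, v s • e s = π v := fun v => by
    conv_rhs => rw [← Finset.univ_sum_single v]
    rw [map_sum]
    refine Finset.sum_congr rfl fun s _ => ?_
    rw [← map_smul]
    congr 1
    funext t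
    by_cases hts : t = s
    · subst hts; simp
    · simp [hts]
  obtain ⟨c, hc⟩ := Ideal.exists_pow_inf_eq_pow_smul (M := Fin k → A) J (LinearMap.ker π)
  obtain ⟨n, hn1, hn⟩ := hJ q (m + c)
  refine ⟨n, le_trans (Nat.le_add_right m c) hn1, fun x hx => ?_⟩
  -- rewrite a divisible class with respect to the generators
  have hrep : ∀ y ∈ divClasses F (J ^ (m + c)) q, ∃ b : Fin k → A, (∀ s, b s ∈ J ^ (m + c)) ∧
      y = ∑ s, hm (mulTo F (J ^ (m + c)) (b s)) q (e s) := by
    intro y hy
    induction hy using AddSubgroup.closure_induction with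
    | mem y hy =>
      obtain ⟨a, ha, z, rfl⟩ := hy
      obtain ⟨v, rfl⟩ := hπ z
      refine ⟨fun s => a * v s, fun s => Ideal.mul_mem_right _ _ ha, ?_⟩
      rw [← he, map_sum]
      refine Finset.sum_congr rfl fun s _ => ?_
      rw [← hm_smulMod, ← hm_comp, smulMod_mulTo F _ ha]
    | zero => exact ⟨0, fun s => Submodule.zero_mem _, by simp [mulTo_zero, hm_zero]⟩
    | add a b _ _ ha hb =>
      obtain ⟨u, hu, rfl⟩ := ha
      obtain ⟨v, hv, rfl⟩ := hb
      refine ⟨u + v, fun s => add_mem (hu s) (hv s), ?_⟩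
      rw [← Finset.sum_add_distrib]
      refine Finset.sum_congr rfl fun s _ => ?_
      rw [Pi.add_apply, mulTo_add F _ (hu s) (hv s), hm_add]
    | neg a _ ha =>
      obtain ⟨u, hu, rfl⟩ := ha
      refine ⟨-u, fun s => neg_mem (hu s), ?_⟩
      rw [← Finset.sum_neg_distrib]
      refine Finset.sum_congr rfl fun s _ => ?_
      rw [neg_eq_iff_add_eq_zero, ← hm_add, Pi.neg_apply,
        ← mulTo_add F _ (hu s) (neg_mem (hu s)), add_neg_cancel, mulTo_zero, hm_zero]
  obtain ⟨b, hb, hxb⟩ := hrep _ (hn x)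
  have hπb : π b = 0 := by
    rw [← he]
    have h0 : hm (kι F (J ^ (m + c))) q (hm (sTr F (Ideal.pow_le_pow_right hn1)) q x) = 0 := by
      rw [← hm_comp, sTr_ι, hx]
    rw [hxb, map_sum] at h0
    refine Eq.trans (Finset.sum_congr rfl fun s _ => ?_) h0
    rw [← hm_comp, mulTo_ι F _ (hb s), hm_smulMod]
  have hb' : b ∈ J ^ (m + c) • (⊤ : Submodule A (Fin k → A)) := by
    rw [← Finset.univ_sum_single b]
    refine Submodule.sum_mem _ fun s _ => ?_
    rw [show Pi.single s (b s) = b s • (Pi.single s (1 : A) : Fin k → A) from by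
      funext t
      by_cases hts : t = s
      · subst hts; simp
      · simp [hts]]
    exact Submodule.smul_mem_smul (hb s) trivial
  have hb'' : b ∈ J ^ m • LinearMap.ker π := by
    have h1 : b ∈ J ^ (m + c) • (⊤ : Submodule A (Fin k → A)) ⊓ LinearMap.ker π := ⟨hb', hπb⟩
    rw [hc (m + c) (Nat.le_add_left c m), Nat.add_sub_cancel] at h1
    exact Submodule.smul_mono le_rfl inf_le_right h1
  have hsum : (∀ s, b s ∈ J ^ m) ∧ ∑ s, hm (mulTo F (J ^ m) (b s)) q (e s) = 0 := by
    refine Submodule.smul_induction_on (p := fun v : Fin k → A => (∀ s, v s ∈ J ^ m) ∧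
      ∑ s, hm (mulTo F (J ^ m) (v s)) q (e s) = 0) hb'' (fun a ha v hv => ?_) fun u v hu hv => ?_
    · refine ⟨fun s => Ideal.mul_mem_right _ _ ha, ?_⟩
      have : ∑ s, hm (mulTo F (J ^ m) (a * v s)) q (e s) = hm (mulTo F (J ^ m) a) q (∑ s, v s • e s) := by
        rw [map_sum]
        refine Finset.sum_congr rfl fun s _ => ?_
        rw [← hm_smulMod, ← hm_comp, smulMod_mulTo F _ ha]
      refine this.trans ?_
      rw [he, show π v = 0 from hv, map_zero]
    · refine ⟨fun s => add_mem (hu.1 s) (hv.1 s), ?_⟩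
      refine Eq.trans (Finset.sum_congr rfl fun s _ => ?_) (by
        rw [Finset.sum_add_distrib, hu.2, hv.2, add_zero] :
          ∑ s, (hm (mulTo F (J ^ m) (u s)) q (e s) + hm (mulTo F (J ^ m) (v s)) q (e s)) = 0)
      rw [Pi.add_apply, mulTo_add F _ (hu.1 s) (hv.1 s), hm_add]
  have hc' : hm (sTr F (Ideal.pow_le_pow_right (Nat.le_add_right m c))) q
      (hm (sTr F (Ideal.pow_le_pow_right hn1)) q x) = 0 := by
    rw [hxb, map_sum]
    refine Eq.trans (Finset.sum_congr rfl fun s _ => ?_) hsum.2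
    rw [← hm_comp, mulTo_sTr F _ (hb s)]
  rwa [← hm_comp, sTr_comp] at hc'

end Groth.Agent.FFFinite
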