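import Groth.Agent.FFFinite.Step
import Groth.Agent.W7Rees.Main

/-!
Formal functions for a coherent module with finite cohomology, no properness.
-/

set_option autoImplicit false
set_option backward.isDefEq.respectTransparency false
set_option backward.isDefEq.respectTransparency.types false
set_option linter.style.haveILetI false
set_option maxHeartbeats 1000000

universe u

open CategoryTheory CategoryTheory.Limits AlgebraicGeometry TopologicalSpace Opposite
open Groth.Agent.W7Rees (hm qπ kι hm_comp)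

noncomputable section

namespace Groth.Agent.FFFinite

variable {A : Type u} [CommRing A] {X : Scheme.{u}} [X.Over (Spec (CommRingCat.of A))]
  {F : X.Modules}

lemma smul_top_le_ker (J : Ideal A) (p : ℕ) {x : Coh.HH X F p} (hx : x ∈ (J • ⊤ : Submodule A (Coh.HH X F p))) :
    hm (qπ F J) p x = 0 := by
  refine Submodule.smul_induction_on (p := fun x => hm (qπ F J) p x = 0) hx (fun a ha y _ => ?_) fun a b ha hb => ?_
  · rw [← hm_smulMod, ← hm_comp, smulMod_qπ F J ha, hm_zero]
  · rw [map_add, ha, hb, add_zero]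

variable [IsNoetherianRing A] [IsNoetherian X]

/-- Classes dying in deep quotients are adically small. -/
theorem exists_ker_le (hF : Coh.IsCoh F) (hfin : ∀ q, Module.Finite A (Coh.HH X F q)) (I : Ideal A) (p m : ℕ) :
    ∃ n, ∀ k, n ≤ k → ∀ x : Coh.HH X F p, hm (qπ F (I ^ k)) p x = 0 →
      x ∈ (I ^ m • ⊤ : Submodule A (Coh.HH X F p)) := by
  obtain ⟨n, hn⟩ := exists_range_le_smul (deep_of_finite hF hfin I) p m
  refine ⟨n, fun k hk x hx => ?_⟩
  obtain ⟨y, rfl⟩ := exists_hm_f (shortExact_qπ (F := F) (I ^ k)) p x hx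
  exact hn k hk y

/-- Classes of a deep quotient come from `F` in a shallower one. -/
theorem exists_range_subset (hF : Coh.IsCoh F) (hfin : ∀ q, Module.Finite A (Coh.HH X F q)) (I : Ideal A) (p m : ℕ) :
    ∃ n, m ≤ n ∧ ∀ φ : cokernel (Formal.smulFamily (I ^ n) F) ⟶ cokernel (Formal.smulFamily (I ^ m) F),
      qπ F (I ^ n) ≫ φ = qπ F (I ^ m) → Set.range (hm φ p) ⊆ Set.range (hm (qπ F (I ^ m)) p) := by
  haveI := hfin (p + 1)
  obtain ⟨n, hmn, hn⟩ := exists_dies (deep_of_finite hF hfin I) (p + 1) m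
  refine ⟨n, hmn, fun φ hφ => ?_⟩
  rintro _ ⟨y, rfl⟩
  have hS := shortExact_qπ (F := F) (I ^ n)
  have hT := shortExact_qπ (F := F) (I ^ m)
  let τ : ShortComplex.mk (kι F (I ^ n)) (qπ F (I ^ n)) (kernel.condition _) ⟶
      ShortComplex.mk (kι F (I ^ m)) (qπ F (I ^ m)) (kernel.condition _) :=
    { τ₁ := sTr F (Ideal.pow_le_pow_right hmn)
      τ₂ := 𝟙 F
      τ₃ := φ
      comm₁₂ := (sTr_ι F _).trans (Category.comp_id _).symm
      comm₂₃ := (Category.id_comp _).trans hφ.symm }
  have h0 : dlt hT p (hm φ p y) = 0 :=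
    (dlt_naturality hS hT τ p y).symm.trans (hn _ (hm_dlt hS p y))
  obtain ⟨z, hz⟩ := exists_hm_g hT p _ h0
  exact ⟨z, hz⟩

theorem formal_functions (hF : Coh.IsCoh F) (hfin : ∀ q, Module.Finite A (Coh.HH X F q)) (I : Ideal A) (p : ℕ) :
    ∃ Φ : AdicCompletion I (Coh.HH X F p) →+ Formal.HHlim I F p, Function.Bijective Φ ∧
      ∀ (x : AdicCompletion I (Coh.HH X F p)) (n : ℕ) (h : Coh.HH X F p),
        AdicCompletion.eval I (Coh.HH X F p) (n + 1) x = Submodule.Quotient.mk h →
          (Φ x : ∀ n, Formal.HHmodPow I F p n) n = Formal.toHHmodPow I F p n h := by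
  classical
  let T := Coh.HH X F p
  have hdef : ∀ (n : ℕ) (x y : T), (Submodule.Quotient.mk x : T ⧸ (I ^ (n + 1) • ⊤ : Submodule A T)) = Submodule.Quotient.mk y →
      Formal.toHHmodPow I F p n x = Formal.toHHmodPow I F p n y := fun n x y h => by
    rw [← sub_eq_zero, ← map_sub]
    exact smul_top_le_ker _ p ((Submodule.Quotient.eq _).1 h)
  choose lift hlift using fun (n : ℕ) (q : T ⧸ (I ^ n • ⊤ : Submodule A T)) => Submodule.Quotient.mk_surjective _ q
  have htrans : ∀ n (x : T), Formal.HHmodPowTrans I F p n (Formal.toHHmodPow I F p (n + 1) x) = Formal.toHHmodPow I F p n x :=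
    fun n x => (Formal.toHHlim I F p x).2 n
  let Φ : AdicCompletion I T →+ Formal.HHlim I F p :=
    AddMonoidHom.mk' (fun a => ⟨fun n => Formal.toHHmodPow I F p n (lift (n + 1) (a.val (n + 1))), fun n => by
      rw [htrans]
      refine hdef n _ _ ?_
      rw [hlift, ← a.2 (Nat.le_succ (n + 1))]
      conv_rhs => rw [← hlift (n + 1 + 1) (a.val (n + 1 + 1))]
      exact (Submodule.factor_mk _ _).symm⟩) fun a b => Subtype.ext (funext fun n => by
      change _ = Formal.toHHmodPow I F p n _ + Formal.toHHmodPow I F p n _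
      rw [← map_add]
      refine hdef n _ _ ?_
      rw [hlift, Submodule.Quotient.mk_add, hlift, hlift]
      rfl)
  refine ⟨Φ, ⟨(injective_iff_map_eq_zero _).2 fun a ha => ?_, fun y => ?_⟩, fun x n h hx => hdef n _ _ ?_⟩
  · refine AdicCompletion.ext fun n => ?_
    obtain ⟨c, hc⟩ := exists_ker_le hF hfin I p n
    have h0 : Formal.toHHmodPow I F p (n + c) (lift (n + c + 1) (a.val (n + c + 1))) = 0 :=
      congrFun (congrArg Subtype.val ha) (n + c)
    have h1 := hc (n + c + 1) (by omega) _ h0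
    rw [← a.2 (show n ≤ n + c + 1 by omega), ← hlift (n + c + 1) (a.val (n + c + 1))]
    exact (Submodule.Quotient.mk_eq_zero _).2 h1
  · choose d hd using fun n => exists_ker_le hF hfin I p n
    have hy : ∀ n, ∃ x : T, Formal.toHHmodPow I F p n x = (y : ∀ n, Formal.HHmodPow I F p n) n := fun n => by
      obtain ⟨k, hk, hk'⟩ := exists_range_subset hF hfin I p (n + 1)
      obtain ⟨k, rfl⟩ : ∃ k', k = k' + 1 := ⟨k - 1, by omega⟩
      exact hk' _ (W7Rees.π_completion_map I n k (by omega)) ⟨_, W7Rees.mem_HHlim_map I y n k (by omega)⟩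
    choose x hx using hy
    -- a level deep enough to determine `x` modulo `I^n`
    let e : ℕ → ℕ := fun n => (Finset.range (n + 1)).sup d + n
    have hde : ∀ n, d n ≤ e n := fun n => le_trans (Finset.le_sup (Finset.self_mem_range_succ n)) (Nat.le_add_right _ _)
    have hee : ∀ n, e n ≤ e (n + 1) := fun n => by
      refine add_le_add (Finset.sup_mono ?_) (Nat.le_succ n)
      exact Finset.range_mono (Nat.le_succ _)
    have hlim : ∀ a b, a ≤ b → Formal.toHHmodPow I F p a (x b) = (y : ∀ n, Formal.HHmodPow I F p n) a := by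
      intro a b hab
      have h1 := congrArg (hm ((Formal.completion I F).map (homOfLE hab).op) p) (hx b)
      rw [W7Rees.mem_HHlim_map I y a b hab] at h1
      refine Eq.trans ?_ h1
      exact (congrArg (fun ψ => hm ψ p (x b)) (W7Rees.π_completion_map I a b hab).symm).trans (hm_comp _ _ p (x b))
    have hcauchy : ∀ n, x (e n) ≡ x (e (n + 1)) [SMOD (I ^ n • ⊤ : Submodule A T)] := fun n => by
      rw [SModEq.sub_mem]
      refine hd n (e n + 1) (le_trans (hde n) (Nat.le_succ _)) _ ?_
      change Formal.toHHmodPow I F p (e n) (x (e n) - x (e (n + 1))) = 0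
      rw [map_sub, hlim _ _ le_rfl, hlim _ _ (hee n), sub_self]
    refine ⟨AdicCompletion.mk I T (AdicCompletion.AdicCauchySequence.mk I T (fun n => x (e n)) hcauchy),
      Subtype.ext (funext fun n => ?_)⟩
    change Formal.toHHmodPow I F p n (lift (n + 1) _) = _
    refine (hdef n _ (x (e (n + 1))) ?_).trans (hlim n _ (le_trans (Nat.le_succ n) (Nat.le_add_left _ _)))
    rw [hlift]
    rfl
  · rw [hlift]
    exact hx

end Groth.Agent.FFFinite
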