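import Groth.Agent.FFFinite.Kernel
import Groth.Agent.W7Rees.Sections

/-!
Adding one generator to the ideal, and the conclusion for every ideal.
-/

set_option autoImplicit false
set_option backward.isDefEq.respectTransparency false
set_option backward.isDefEq.respectTransparency.types false
set_option linter.style.haveILetI false
set_option maxHeartbeats 1000000

universe u

open CategoryTheory CategoryTheory.Limits AlgebraicGeometry TopologicalSpace Opposite
open Groth.Agent.W7Rees (hm qπ kι hm_comp)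

noncomputable section

namespace Groth.Agent.FFFinite

variable {A : Type u} [CommRing A] {X : Scheme.{u}} [X.Over (Spec (CommRingCat.of A))]
  {F : X.Modules}

/-- The kernels of the powers of a multiplication stabilise. -/
theorem exists_stable [IsNoetherian X] (hF : Coh.IsCoh F) (f : A) :
    ∃ N : ℕ, ∀ n, N ≤ n → kernel.ι (Formal.smulMod A F (f ^ n)) ≫ Formal.smulMod A F (f ^ N) = 0 := by
  have hle : ∀ {a b : ℕ}, a ≤ b →
      kernelSubobject (Formal.smulMod A F (f ^ a)) ≤ kernelSubobject (Formal.smulMod A F (f ^ b)) := fun {a b} hab => by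
    have h : Formal.smulMod A F (f ^ a) ≫ Formal.smulMod A F (f ^ (b - a)) = Formal.smulMod A F (f ^ b) := by
      rw [W7Exist.smulMod_comp, ← pow_add]
      congr 2
      omega
    rw [← h]
    exact kernelSubobject_comp_le _ _
  obtain ⟨N, hN⟩ := QC.acc_subobject hF ⟨fun n => kernelSubobject (Formal.smulMod A F (f ^ n)), fun a b h => hle h⟩
    fun n => QC.isQCoh_of_iso (kernelSubobjectIso (Formal.smulMod A F (f ^ n))).symm (QC.isQCoh_kernel hF.1 hF.1 _)
  refine ⟨N, fun n hn => ?_⟩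
  have hfac : (kernelSubobject (Formal.smulMod A F (f ^ N))).Factors (kernel.ι (Formal.smulMod A F (f ^ n))) := by
    have := hN n hn
    change kernelSubobject (Formal.smulMod A F (f ^ n)) = kernelSubobject (Formal.smulMod A F (f ^ N)) at this
    rw [← this, kernelSubobject_factors_iff]
    exact kernel.condition _
  exact (kernelSubobject_factors_iff _ _).1 hfac

lemma smulMod_mem_sup (K L : Ideal A) {a : A} (ha : a ∈ K ⊔ L) {P : X.Modules} (h : F ⟶ P)
    (hK : ∀ b ∈ K, Formal.smulMod A F b ≫ h = 0) (hL : ∀ b ∈ L, Formal.smulMod A F b ≫ h = 0) :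
    Formal.smulMod A F a ≫ h = 0 := by
  obtain ⟨b, hb, c, hc, rfl⟩ := Submodule.mem_sup.1 ha
  rw [W7Exist.smulMod_add, Preadditive.add_comp, hK b hb, hL c hc, add_zero]

/-- Artin–Rees on one affine open. -/
theorem exists_artinRees [IsLocallyNoetherian X] (hF : Coh.IsCoh F) {V : X.Opens} (hV : IsAffineOpen V)
    (J : Ideal A) (g : A) (l : ℕ) :
    ∃ n, ∀ k, n ≤ k → ∀ s : ((W7Cech.secA A V).obj F : Type u),
      s ∈ J ^ k • (⊤ : Submodule A ((W7Cech.secA A V).obj F : Type u)) → (∃ t, g • t = s) →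
      ∃ y ∈ J ^ l • (⊤ : Submodule A ((W7Cech.secA A V).obj F : Type u)), g • y = s := by
  haveI : Module.Finite Γ(X, V) Γ(F, V) := (QC.isCoh_iff_finite_sections.mp hF).2 ⟨V, hV⟩
  haveI : IsNoetherianRing Γ(X, V) := IsLocallyNoetherian.component_noetherian ⟨V, hV⟩
  letI : Algebra A Γ(X, V) := (W7Cech.secRing A V).toAlgebra
  letI : Module A Γ(F, V) := Module.compHom Γ(F, V) (W7Cech.secRing A V)
  haveI : IsScalarTower A Γ(X, V) Γ(F, V) := IsScalarTower.of_algebraMap_smul fun _ _ => rfl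
  have hsm : ∀ (K : Ideal A) (s : Γ(F, V)), s ∈ (K • ⊤ : Submodule A Γ(F, V)) ↔
      s ∈ (K.map (algebraMap A Γ(X, V)) • ⊤ : Submodule Γ(X, V) Γ(F, V)) := fun K s => by
    rw [← Submodule.restrictScalars_top A Γ(X, V) Γ(F, V), ← Ideal.smul_restrictScalars]
    rfl
  obtain ⟨c, hc⟩ := Ideal.exists_pow_inf_eq_pow_smul (J.map (algebraMap A Γ(X, V)))
    (LinearMap.range (LinearMap.lsmul Γ(X, V) Γ(F, V) (algebraMap A Γ(X, V) g)))
  refine ⟨c + l, fun k hk s hs ⟨t, ht⟩ => ?_⟩
  have h1 : (show Γ(F, V) from s) ∈ (J.map (algebraMap A Γ(X, V))) ^ k • (⊤ : Submodule Γ(X, V) Γ(F, V)) ⊓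
      LinearMap.range (LinearMap.lsmul Γ(X, V) Γ(F, V) (algebraMap A Γ(X, V) g)) := by
    refine ⟨?_, ⟨t, ht⟩⟩
    rw [← Ideal.map_pow]
    exact (hsm _ _).1 hs
  rw [hc k (by omega)] at h1
  have h2 : (show Γ(F, V) from s) ∈ ((J.map (algebraMap A Γ(X, V))) ^ l • (⊤ : Submodule Γ(X, V) Γ(F, V))).map
      (LinearMap.lsmul Γ(X, V) Γ(F, V) (algebraMap A Γ(X, V) g)) := by
    rw [Submodule.map_smul'', Submodule.map_top]
    exact Submodule.smul_mono (Ideal.pow_le_pow_right (by omega)) inf_le_right h1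
  obtain ⟨y, hy, hys⟩ := h2
  refine ⟨y, ?_, hys⟩
  rw [← Ideal.map_pow] at hy
  exact (hsm _ _).2 hy

/-- Deep divisibility passes from `J` to `(f) + J`. -/
theorem deep_span_singleton_sup [IsNoetherianRing A] [IsNoetherian X] (hF : Coh.IsCoh F)
    (hfin : ∀ q, Module.Finite A (Coh.HH X F q)) (f : A) {J : Ideal A} (hJ : Deep F J) :
    Deep F (Ideal.span {f} ⊔ J) := by
  intro q m
  obtain ⟨N, hN⟩ := exists_stable hF f
  obtain ⟨l', hml', hl'⟩ := hJ q m
  haveI := hfin (q + 1)
  obtain ⟨l, hll', hl⟩ := exists_dies hJ (q + 1) l'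
  set k := m + N with hk
  -- Artin-Rees over an affine cover
  obtain ⟨T, hT⟩ : ∃ T : Finset X.affineOpens, ∀ x : X, ∃ U ∈ T, x ∈ U.1 := by
    obtain ⟨T, hT⟩ := isCompact_univ.elim_finite_subcover (fun U : X.affineOpens ↦ (U.1 : Set X))
      (fun U ↦ U.1.2) (fun x _ ↦ by
        obtain ⟨U, hU, hx⟩ := QC.exists_affine_mem x
        exact Set.mem_iUnion.mpr ⟨⟨U, hU⟩, hx⟩)
    exact ⟨T, fun x ↦ by simpa [Set.mem_iUnion] using hT (Set.mem_univ x)⟩
  choose nU hnU using fun U : X.affineOpens => exists_artinRees hF U.2 J (f ^ (k + N)) l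
  set n2 := max l (T.sup nU) with hn2
  set n1 := k + N with hn1
  set J'' := Ideal.span {f} ⊔ J with hJ''
  refine ⟨n1 + n2, by omega, fun x => ?_⟩
  -- the four subsheaves
  set IA := Ideal.span ({f ^ n1} : Set A) with hIA
  set IB := J ^ n2 with hIB
  set IA' := Ideal.span ({f ^ k} : Set A) with hIA'
  set IB' := J ^ l' with hIB'
  have hAA : IA ≤ IA' := Ideal.span_singleton_le_span_singleton.2 (pow_dvd_pow f (by omega))
  have hBB : IB ≤ IB' := Ideal.pow_le_pow_right (by omega)
  have hA'm : IA' ≤ J'' ^ m := by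
    rw [hIA', ← Ideal.span_singleton_pow]
    exact le_trans (Ideal.pow_le_pow_right (by omega)) (Ideal.pow_right_mono le_sup_left m)
  have hB'm : IB' ≤ J'' ^ m := le_trans (Ideal.pow_le_pow_right (by omega)) (Ideal.pow_right_mono le_sup_right m)
  have hJAB : J'' ^ (n1 + n2) ≤ IA ⊔ IB := by
    rw [hIA, ← Ideal.span_singleton_pow]
    exact Ideal.sup_pow_add_le_pow_sup_pow
  let d : jSub F IA ⊞ jSub F IB ⟶ F := biprod.desc (kι F IA) (kι F IB)
  let d' : jSub F IA' ⊞ jSub F IB' ⟶ F := biprod.desc (kι F IA') (kι F IB')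
  let b : jSub F IA ⊞ jSub F IB ⟶ jSub F IA' ⊞ jSub F IB' := biprod.map (sTr F hAA) (sTr F hBB)
  have hbd : b ≫ d' = d := biprod.hom_ext' _ _ (by simp [b, d, d']) (by simp [b, d, d'])
  let S : ShortComplex X.Modules := ShortComplex.mk (kernel.ι d) (Abelian.factorThruImage d)
    ((cancel_mono (Abelian.image.ι d)).1 (by simp [Abelian.image.fac]))
  let S' : ShortComplex X.Modules := ShortComplex.mk (kernel.ι d') (Abelian.factorThruImage d')
    ((cancel_mono (Abelian.image.ι d')).1 (by simp [Abelian.image.fac]))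
  have hse : ∀ {P : X.Modules} (e : P ⟶ F) (h : kernel.ι e ≫ Abelian.factorThruImage e = 0),
      (ShortComplex.mk (kernel.ι e) (Abelian.factorThruImage e) h).ShortExact := fun e h => by
    refine { exact := ?_ }
    refine ShortComplex.exact_of_f_is_kernel _ (KernelFork.IsLimit.ofι' _ h fun {K} g hg => ⟨kernel.lift e g ?_, kernel.lift_ι _ _ _⟩)
    rw [← Abelian.image.fac e, ← Category.assoc, hg, zero_comp]
  have hS : S.ShortExact := hse d _
  have hS' : S'.ShortExact := hse d' _
  let τ : S ⟶ S' :=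
    { τ₁ := kernel.lift d' (kernel.ι d ≫ b) (by rw [Category.assoc, hbd, kernel.condition])
      τ₂ := b
      τ₃ := kernel.lift _ (Abelian.image.ι d) (by
        rw [← cancel_epi (Abelian.factorThruImage d), comp_zero, ← Category.assoc, Abelian.image.fac, ← hbd,
          Category.assoc, cokernel.condition, comp_zero])
      comm₁₂ := kernel.lift_ι _ _ _
      comm₂₃ := (cancel_mono (Abelian.image.ι d')).1 (by
        change (b ≫ Abelian.factorThruImage d') ≫ Abelian.image.ι d' =
          (Abelian.factorThruImage d ≫ kernel.lift _ (Abelian.image.ι d) _) ≫ Abelian.image.ι d'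
        rw [Category.assoc, Category.assoc, Abelian.image.fac]
        refine hbd.trans ?_
        exact ((congrArg (Abelian.factorThruImage d ≫ ·) (kernel.lift_ι _ _ _)).trans (Abelian.image.fac d)).symm) }
  -- into the image
  let v : jSub F (J'' ^ (n1 + n2)) ⟶ Abelian.image d := kernel.lift _ (kι F _) (by
    refine kι_comp_eq_zero F _ _ fun a ha => smulMod_mem_sup IA IB (hJAB ha) _ (fun c hc => ?_) fun c hc => ?_
    · rw [← mulTo_ι F IA hc, ← biprod.inl_desc (kι F IA) (kι F IB), Category.assoc, Category.assoc,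
        cokernel.condition, comp_zero, comp_zero]
    · rw [← mulTo_ι F IB hc, ← biprod.inr_desc (kι F IA) (kι F IB), Category.assoc, Category.assoc,
        cokernel.condition, comp_zero, comp_zero])
  let w : Abelian.image d' ⟶ jSub F (J'' ^ m) := kernel.lift _ (Abelian.image.ι d') (by
    rw [← cancel_epi (Abelian.factorThruImage d'), comp_zero, ← Category.assoc, Abelian.image.fac]
    refine biprod.hom_ext' _ _ ?_ ?_
    · rw [biprod.inl_desc_assoc, ← sTr_ι F hA'm, Category.assoc, kernel.condition, comp_zero, comp_zero]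
    · rw [biprod.inr_desc_assoc, ← sTr_ι F hB'm, Category.assoc, kernel.condition, comp_zero, comp_zero])
  have hwv : v ≫ τ.τ₃ ≫ w = sTr F (Ideal.pow_le_pow_right (by omega : m ≤ n1 + n2)) := by
    rw [← cancel_mono (kι F (J'' ^ m)), sTr_ι, Category.assoc, Category.assoc]
    simp [τ, w, v]
  -- division by a power of `f`
  have hdiv : ∀ n, N ≤ n → ∃ θ : jSub F (Ideal.span ({f ^ n} : Set A)) ⟶ F,
      mulTo F (Ideal.span ({f ^ n} : Set A)) (f ^ n) ≫ θ = Formal.smulMod A F (f ^ N) ∧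
      θ ≫ Formal.smulMod A F (f ^ (n - N)) = kι F (Ideal.span ({f ^ n} : Set A)) := by
    intro n hn
    have he := mulTo_ι F (Ideal.span ({f ^ n} : Set A)) (Ideal.mem_span_singleton_self (f ^ n))
    have hepi : Epi (mulTo F (Ideal.span ({f ^ n} : Set A)) (f ^ n)) := by
      have hex : (ShortComplex.mk (Formal.smulMod A F (f ^ n)) (qπ F (Ideal.span ({f ^ n} : Set A)))
          (smulMod_qπ F _ (Ideal.mem_span_singleton_self _))).Exact := by
        refine ShortComplex.exact_of_g_is_cokernel _ (CokernelCofork.IsColimit.ofπ' _ _ fun {P} φ hφ =>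
          ⟨cokernel.desc (Formal.smulFamily (Ideal.span ({f ^ n} : Set A)) F) φ (Sigma.hom_ext _ _ fun a => ?_), cokernel.π_desc _ _ _⟩)
        obtain ⟨c, hc⟩ := Ideal.mem_span_singleton'.1 a.2
        rw [Formal.smulFamily, Sigma.ι_desc_assoc, comp_zero, ← hc, mul_comm, ← W7Exist.smulMod_comp,
          Category.assoc, hφ, comp_zero]
      have h1 := (ShortComplex.exact_iff_epi_kernel_lift _).1 hex
      have h2 : mulTo F (Ideal.span ({f ^ n} : Set A)) (f ^ n) =
          kernel.lift (qπ F (Ideal.span ({f ^ n} : Set A))) (Formal.smulMod A F (f ^ n))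
            (smulMod_qπ F _ (Ideal.mem_span_singleton_self _)) :=
        (cancel_mono (kι F _)).1 (he.trans (kernel.lift_ι _ _ _).symm)
      rw [h2]
      exact h1
    have h0 : kernel.ι (mulTo F (Ideal.span ({f ^ n} : Set A)) (f ^ n)) ≫ Formal.smulMod A F (f ^ N) = 0 := by
      have h3 : kernel.ι (mulTo F (Ideal.span ({f ^ n} : Set A)) (f ^ n)) ≫ Formal.smulMod A F (f ^ n) = 0 := by
        rw [← he, ← Category.assoc, kernel.condition, zero_comp]
      rw [← kernel.lift_ι _ _ h3, Category.assoc, hN n hn, comp_zero]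
    have hex' : (ShortComplex.mk (kernel.ι (mulTo F (Ideal.span ({f ^ n} : Set A)) (f ^ n)))
        (mulTo F (Ideal.span ({f ^ n} : Set A)) (f ^ n)) (kernel.condition _)).Exact := ShortComplex.exact_kernel _
    haveI := hepi
    refine ⟨hex'.desc (Formal.smulMod A F (f ^ N)) h0, hex'.g_desc _ _, ?_⟩
    rw [← cancel_epi (mulTo F (Ideal.span ({f ^ n} : Set A)) (f ^ n)), ← Category.assoc, he]
    refine (congrArg (· ≫ _) (hex'.g_desc _ _)).trans ?_
    rw [W7Exist.smulMod_comp, ← pow_add]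
    congr 2
    omega
  obtain ⟨θ, hθe, hθι⟩ := hdiv n1 (by omega)
  obtain ⟨θ', -, hθ'ι⟩ := hdiv k (by omega)
  change θ ≫ _ = kι F IA at hθι
  change θ' ≫ _ = kι F IA' at hθ'ι
  rw [show n1 - N = k by omega] at hθι
  rw [show k - N = m by omega] at hθ'ι
  -- the intersection divided by a power of `f` lies in `J^l F`
  let S0 := kernel (kι F IA ≫ qπ F IB)
  have hσ : kernel.ι (kι F IA ≫ qπ F IB) ≫ θ ≫ qπ F (J ^ l) = 0 := by
    refine eq_zero_of_app_eq_zero (QC.isQCoh_kernel (W7Rees.isQCoh_modKer F IA hF.1) (W7Rees.isQCoh_modQuot F IB hF.1) _)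
      (W7Rees.isQCoh_modQuot F _ hF.1) _ (fun U : {U : X.affineOpens // U ∈ T} => U.1.1) (fun U => U.1.2)
      (fun x => let ⟨U, hU, hx⟩ := hT x; ⟨⟨U, hU⟩, hx⟩) ?_
    rintro ⟨⟨V, hV⟩, hVT⟩ s
    let a := (kernel.ι (kι F IA ≫ qπ F IB)).app V s
    have hB : (qπ F IB).app V ((kι F IA).app V a) = 0 :=
      congr($(kernel.condition (kι F IA ≫ qπ F IB)).app V s)
    have hA : (qπ F IA).app V ((kι F IA).app V a) = 0 := congr($(kernel.condition (qπ F IA)).app V a)
    rw [W7Rees.modQuot_eq_zero_iff F IB hF.1 hV] at hB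
    rw [W7Rees.modQuot_eq_zero_iff F IA hF.1 hV] at hA
    obtain ⟨t, -, ht⟩ := (Submodule.mem_smul_pointwise_iff_exists _ _ _).1
      ((Submodule.ideal_span_singleton_smul (f ^ n1) _).le hA)
    obtain ⟨y, hy, hys⟩ := hnU ⟨V, hV⟩ n2 (le_trans (Finset.le_sup hVT) (le_max_right _ _)) _ hB ⟨t, ht⟩
    have ha : (mulTo F IA (f ^ n1)).app V y = a := by
      apply QC.app_injective_of_mono (kι F IA) V
      have h1 := congr($(mulTo_ι F IA (Ideal.mem_span_singleton_self (f ^ n1))).app V y)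
      refine Eq.trans ?_ hys
      exact h1
    change (qπ F (J ^ l)).app V (θ.app V a) = 0
    rw [← ha, W7Rees.modQuot_eq_zero_iff F _ hF.1 hV]
    have h2 : θ.app V ((mulTo F IA (f ^ n1)).app V y) = (Formal.smulMod A F (f ^ N)).app V y :=
      congr($(hθe).app V y)
    rw [h2]
    exact Submodule.smul_mem _ (f ^ N) hy
  have hfst0 : (kernel.ι d ≫ biprod.fst) ≫ kι F IA ≫ qπ F IB = 0 := by
    have htot : biprod.fst ≫ kι F IA = d - biprod.snd ≫ kι F IB := by
      rw [eq_sub_iff_add_eq]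
      exact biprod.hom_ext' _ _ (by simp [d]) (by simp [d])
    rw [Category.assoc, ← Category.assoc biprod.fst, htot, ← Category.assoc, Preadditive.comp_sub,
      kernel.condition, zero_sub, Preadditive.neg_comp, Category.assoc, Category.assoc, kernel.condition,
      comp_zero, comp_zero, neg_zero]
  let θS : kernel d ⟶ jSub F (J ^ l) := kernel.lift _ ((kernel.ι d ≫ biprod.fst) ≫ θ) (by
    rw [← kernel.lift_ι _ _ hfst0, Category.assoc, Category.assoc, hσ, comp_zero])
  let ν : jSub F IB' ⟶ kernel d' :=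
    kernel.lift d' (biprod.lift (kι F IB' ≫ mulTo F IA' (f ^ k)) (-(Formal.smulMod A (jSub F IB') (f ^ k)))) (by
      rw [biprod.lift_desc, Category.assoc, mulTo_ι F IA' (Ideal.mem_span_singleton_self _), Preadditive.neg_comp,
        W7Cech.smulMod_natural A, add_neg_cancel])
  have hτ : τ.τ₁ = θS ≫ sTr F (Ideal.pow_le_pow_right hll') ≫ ν := by
    rw [← cancel_mono (kernel.ι d')]
    have hl1 : τ.τ₁ ≫ kernel.ι d' = kernel.ι d ≫ b := kernel.lift_ι _ _ _
    refine hl1.trans ?_
    have hθS : θS ≫ sTr F (Ideal.pow_le_pow_right hll' : J ^ l ≤ IB') ≫ kι F IB' =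
        (kernel.ι d ≫ biprod.fst) ≫ θ := by
      rw [sTr_ι]
      exact kernel.lift_ι _ _ _
    have hν : ν ≫ kernel.ι d' =
        biprod.lift (kι F IB' ≫ mulTo F IA' (f ^ k)) (-(Formal.smulMod A (jSub F IB') (f ^ k))) :=
      kernel.lift_ι _ _ _
    rw [Category.assoc, Category.assoc, hν]
    have hkey : θS ≫ sTr F (Ideal.pow_le_pow_right hll' : J ^ l ≤ IB') ≫ kι F IB' ≫ Formal.smulMod A F (f ^ k) =
        (kernel.ι d ≫ biprod.fst) ≫ kι F IA := by
      rw [← Category.assoc (sTr F _), ← Category.assoc θS, hθS, Category.assoc, hθι]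
    refine biprod.hom_ext _ _ ?_ ?_
    · rw [← cancel_mono (kι F IA')]
      simp only [Category.assoc, biprod.lift_fst, b, biprod.map_fst]
      rw [sTr_ι, mulTo_ι F IA' (Ideal.mem_span_singleton_self (f ^ k)), hkey, Category.assoc]
    · rw [← cancel_mono (kι F IB')]
      simp only [Category.assoc, biprod.lift_snd, b, biprod.map_snd, Preadditive.neg_comp, Preadditive.comp_neg]
      rw [sTr_ι, W7Cech.smulMod_natural A (kι F IB') (f ^ k), hkey, eq_neg_iff_add_eq_zero, Category.assoc,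
        ← Preadditive.comp_add, add_comm, ← biprod.desc_eq]
      exact kernel.condition d
  -- the cohomology class
  set x1 := hm v q x with hx1
  have hu : hm (kι F (J ^ l)) (q + 1) (hm θS (q + 1) (dlt hS q x1)) = 0 := by
    rw [← hm_comp, show θS ≫ kι F (J ^ l) = kernel.ι d ≫ (biprod.fst ≫ θ) by
      rw [kernel.lift_ι, Category.assoc], hm_comp]
    exact (congrArg (hm (biprod.fst ≫ θ) (q + 1)) (hm_dlt hS q x1)).trans (map_zero _)
  have hd0 : dlt hS' q (hm τ.τ₃ q x1) = 0 := by
    rw [← dlt_naturality hS hS' τ q x1, hτ, hm_comp, hm_comp, hl _ hu, map_zero]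
  obtain ⟨y, hy⟩ := exists_hm_g hS' q _ hd0
  rw [← hwv, hm_comp, hm_comp, ← hx1, ← hy, ← hm_comp]
  rw [← hm_id q y, ← biprod.total, hm_add, map_add, hm_comp biprod.fst, hm_comp biprod.snd,
    ← hm_comp biprod.inl, ← hm_comp biprod.inr]
  have hgi : biprod.inl ≫ S'.g ≫ w = θ' ≫ mulTo F (J'' ^ m) (f ^ m) := by
    rw [← cancel_mono (kι F (J'' ^ m))]
    simp [S', w, d', mulTo_ι F (J'' ^ m) (Ideal.pow_mem_pow (Ideal.mem_sup_left (Ideal.mem_span_singleton_self f)) m), hθ'ι]
  have hgr : biprod.inr ≫ S'.g ≫ w = sTr F hB'm := by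
    rw [← cancel_mono (kι F (J'' ^ m))]
    simp [S', w, d']
  refine add_mem ?_ ?_
  · rw [hgi, hm_comp]
    exact AddSubgroup.subset_closure ⟨f ^ m, Ideal.pow_mem_pow (Ideal.mem_sup_left (Ideal.mem_span_singleton_self f)) m, _, rfl⟩
  · rw [hgr, ← sTr_comp F (Ideal.pow_le_pow_right hml' : J ^ l' ≤ J ^ m) (Ideal.pow_right_mono le_sup_right m), hm_comp]
    exact divClasses_map F _ q (hl' _)

lemma deep_bot : Deep F (⊥ : Ideal A) := by
  intro q m
  refine ⟨max m 1, le_max_left _ _, fun x => ?_⟩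
  have h : sTr F (Ideal.pow_le_pow_right (le_max_left m 1) : (⊥ : Ideal A) ^ (max m 1) ≤ ⊥ ^ m) = 0 := by
    rw [← cancel_mono (kι F _), sTr_ι, zero_comp]
    have hbot : (⊥ : Ideal A) ^ (max m 1) = ⊥ := le_bot_iff.1 ((Ideal.pow_le_pow_right (le_max_right m 1)).trans (pow_one _).le)
    refine Eq.trans (Category.comp_id _).symm (kι_comp_eq_zero F _ (𝟙 F) fun a ha => ?_)
    rw [hbot, Ideal.mem_bot] at ha
    rw [ha, W7Exist.smulMod_zero, zero_comp]
  rw [h, hm_zero]
  exact zero_mem _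

/-- Deep classes are divisible, for every ideal. -/
theorem deep_of_finite [IsNoetherianRing A] [IsNoetherian X] (hF : Coh.IsCoh F)
    (hfin : ∀ q, Module.Finite A (Coh.HH X F q)) (I : Ideal A) : Deep F I := by
  classical
  obtain ⟨s, rfl⟩ := IsNoetherian.noetherian I
  induction s using Finset.induction with
  | empty => rw [Finset.coe_empty, Submodule.span_empty]; exact deep_bot
  | insert f t _ ih =>
    rw [Finset.coe_insert, Submodule.span_insert]
    exact deep_span_singleton_sup hF hfin f ih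

end Groth.Agent.FFFinite
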